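import Groth.Agent.VBResLib.Res
import Groth.Agent.KHeartLib.Classes
import Groth.Prelude.Def_SGA6

/-!
# Classes of resolutions in Grothendieck groups
-/

set_option autoImplicit false

universe v w v' w' u

open CategoryTheory CategoryTheory.Limits AlgebraicGeometry
open Groth.Agent.KHeartLib

namespace VBResLib

variable {C : Type w} [Category.{v} C] [Abelian C]

theorem mapSub_clSub {D : Type w'} [Category.{v'} D] [Abelian D] (F : C ⥤ D) [F.Additive] [PreservesFiniteLimits F]
    [PreservesFiniteColimits F] (P : ObjectProperty C) (Q : ObjectProperty D) (h : ∀ X, P X → Q (F.obj X))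
    {X : C} (hX : P X) :
    SGA6.mapSub F P Q h (KZero.clSub P X) = KZero.clSub Q (F.obj X) := by
  rw [clSub_of P hX, clSub_of Q (h X hX)]
  simp [SGA6.mapSub, SGA6.objMap, FreeAbelianGroup.map_of_apply]

/-- The class of an object is the alternating sum of the terms of a finite resolution. -/
theorem clSub_eq_euler (P : ObjectProperty C) [P.IsClosedUnderIsomorphisms] [P.ContainsZero]
    (h1 : ∀ S : ShortComplex C, S.ShortExact → P S.X₂ → P S.X₃ → P S.X₁)
    {A : C} (hA : P A) (L : ChainComplex C ℕ) (hL : ∀ i, P (L.X i)) (n : ℕ) (hz : ∀ i, n < i → IsZero (L.X i))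
    (π : L ⟶ (ChainComplex.single₀ C).obj A) [QuasiIso π] :
    KZero.clSub P A = ∑ k ∈ Finset.range (n + 1), (-1 : ℤ) ^ k • KZero.clSub P (L.X k) := by
  have hex : ∀ i, 1 ≤ i → L.ExactAt i := fun i hi => by
    obtain ⟨i, rfl⟩ := Nat.exists_eq_add_of_le' hi
    rw [← quasiIsoAt_iff_exactAt' π (i + 1) (ChainComplex.exactAt_succ_single_obj _ _)]
    infer_instance
  have e : L.homology 0 ≅ A := isoOfQuasiIsoAt π 0 ≪≫
    HomologicalComplex.singleObjHomologySelfIso (ComplexShape.down ℕ) 0 A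
  obtain ⟨Z, hZ0, hZ, hS⟩ := exists_syzygies L hex e
  have hP : ∀ j, P (Z j) := by
    intro j
    induction j with
    | zero => rwa [hZ0]
    | succ j ih =>
      obtain ⟨S, hS', h₂, ⟨e₁⟩, ⟨e₃⟩⟩ := hS j
      exact P.prop_of_iso e₁ (h1 S hS' (h₂ ▸ hL j) (P.prop_of_iso e₃.symm ih))
  have hrec : ∀ j, KZero.clSub P (L.X j) = KZero.clSub P (Z (j + 1)) + KZero.clSub P (Z j) := by
    intro j
    obtain ⟨S, hS', h₂, ⟨e₁⟩, ⟨e₃⟩⟩ := hS j
    rw [← h₂, clSub_add P S hS' (P.prop_of_iso e₁.symm (hP _)) (h₂ ▸ hL j) (P.prop_of_iso e₃.symm (hP _)),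
      clSub_congr P e₁, clSub_congr P e₃]
  have key : ∀ m, ∑ k ∈ Finset.range m, (-1 : ℤ) ^ k • KZero.clSub P (L.X k) =
      KZero.clSub P A - (-1 : ℤ) ^ m • KZero.clSub P (Z m) := by
    intro m
    induction m with
    | zero => simp [hZ0]
    | succ m ih =>
      rw [Finset.sum_range_succ, ih, hrec m, pow_succ]
      simp only [smul_add, mul_neg, mul_one, neg_smul, sub_neg_eq_add]
      abel
  have hz' : IsZero (Z (n + 2)) := by
    rw [hZ]
    exact (hz (n + 1) n.lt_succ_self).of_mono (L.iCycles (n + 1))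
  have h := key (n + 2)
  rw [clSub_eq_zero P (hP _) hz', smul_zero, sub_zero, Finset.sum_range_succ,
    clSub_eq_zero P (hL _) (hz (n + 1) n.lt_succ_self), smul_zero, add_zero] at h
  exact h.symm

end VBResLib
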