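import Groth.Agent.VBResLib.Res
import Groth.Agent.ProjClosedImmLib.Stalk
import Groth.Agent.FComplLib.Modules
import Groth.Agent.QCohLib.Coherent
import Groth.Prelude.Def_Mor2
import Mathlib.RingTheory.Regular.Category
import Mathlib.RingTheory.Regular.Flat

/-!
# Direct images of locally free modules along regular closed immersions

They are coherent, with stalks of bounded projective dimension, hence have finite locally free
resolutions when there are enough locally free modules.
-/

set_option autoImplicit false

universe u

open CategoryTheory CategoryTheory.Limits AlgebraicGeometry TopologicalSpace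
open RingTheory.Sequence

namespace VBResLib

section Alg

variable {R : Type u} [CommRing R]

/-- Cutting down by a weakly regular sequence raises the projective dimension by at most its length. -/
theorem pdLT_quot_ofList : ∀ (rs : List R) (M : ModuleCat.{u} R) (n : ℕ), IsWeaklyRegular M rs →
    HasProjectiveDimensionLT M n →
    HasProjectiveDimensionLT (ModuleCat.of R (M ⧸ (Ideal.ofList rs • ⊤ : Submodule R M))) (n + rs.length) := by
  intro rs
  induction rs with
  | nil =>
    intro M n _ h
    refine hasProjectiveDimensionLT_of_iso (Submodule.quotEquivOfEqBot _ ?_).symm.toModuleIso n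
    simp
  | cons r rs ih =>
    intro M n hreg h
    rw [isWeaklyRegular_cons_iff] at hreg
    have h1 : HasProjectiveDimensionLT (ModuleCat.of R (QuotSMulTop r M)) (n + 1) :=
      hreg.1.smulShortComplex_shortExact.hasProjectiveDimensionLT_X₃ n h
        (hasProjectiveDimensionLT_of_ge M n (n + 1) n.le_succ)
    have h2 := ih (ModuleCat.of R (QuotSMulTop r M)) (n + 1) hreg.2 h1
    rw [List.length_cons, show n + (rs.length + 1) = n + 1 + rs.length by omega]
    exact hasProjectiveDimensionLT_of_iso
      (Submodule.quotOfListConsSMulTopEquivQuotSMulTopInner M r rs).symm.toModuleIso _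

/-- Finite powers. -/
theorem pdLT_pi (V : Type u) [AddCommGroup V] [Module R V] {n : ℕ}
    (h : HasProjectiveDimensionLT (ModuleCat.of R V) n) :
    ∀ k : ℕ, HasProjectiveDimensionLT (ModuleCat.of R (Fin k → V)) n := by
  intro k
  induction k with
  | zero =>
    have : HasProjectiveDimensionLT (ModuleCat.of R (Fin 0 → V)) 0 :=
      (ModuleCat.isZero_of_subsingleton _).hasProjectiveDimensionLT_zero
    exact hasProjectiveDimensionLT_of_ge _ 0 n n.zero_le
  | succ k ih =>
    let p : (V × (Fin k → V)) →ₗ[R] (Fin k → V) := LinearMap.snd R V _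
    let S : ShortComplex (ModuleCat.{u} R) := ShortComplex.mk (ModuleCat.ofHom (LinearMap.inl R V (Fin k → V)))
      (ModuleCat.ofHom p) (by ext v; rfl)
    have hS : S.ShortExact :=
      { exact := by
          rw [ShortComplex.moduleCat_exact_iff]
          intro x hx
          exact ⟨x.1, Prod.ext rfl hx.symm⟩
        mono_f := by rw [ModuleCat.mono_iff_injective]; exact LinearMap.inl_injective
        epi_g := by rw [ModuleCat.epi_iff_surjective]; exact Prod.snd_surjective }
    have h2 := hS.hasProjectiveDimensionLT_X₂ n h ih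
    exact hasProjectiveDimensionLT_of_iso
      (Fin.consLinearEquiv R (fun _ : Fin (k + 1) => V)).toModuleIso _

/-- A module which is finite free over a quotient by a weakly regular sequence. -/
theorem pdLT_of_free_quot {B : Type u} [CommRing B] (φ : R →+* B) (hφ : Function.Surjective φ) (rs : List R)
    (hrs : IsWeaklyRegular R rs) (hker : RingHom.ker φ = Ideal.ofList rs) (M : Type u) [AddCommGroup M] [Module B M]
    [Module.Finite B M] [Module.Free B M] (N : ModuleCat.{u} R) (p : N →+ M) (hp : Function.Bijective p)
    (hps : ∀ (c : R) (n : N), p (c • n) = φ c • p n) :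
    HasProjectiveDimensionLT N (rs.length + 1) := by
  rcases subsingleton_or_nontrivial B with hB | hB
  · have : Subsingleton M := Module.subsingleton B M
    have : Subsingleton N := hp.1.subsingleton
    have : HasProjectiveDimensionLT N 0 := (ModuleCat.isZero_of_subsingleton _).hasProjectiveDimensionLT_zero
    exact hasProjectiveDimensionLT_of_ge _ 0 _ (Nat.zero_le _)
  letI : Algebra R B := φ.toAlgebra
  letI : Module R M := Module.compHom M φ
  haveI : IsScalarTower R B M := IsScalarTower.of_algebraMap_smul fun _ _ => rfl
  let p' : N ≃ₗ[R] M := LinearEquiv.ofBijective ({ p with map_smul' := hps } : N →ₗ[R] M) hp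
  let b := Module.finBasis B M
  let e₀ : (R ⧸ Ideal.ofList rs) ≃ₗ[R] B :=
    ((Ideal.quotientEquivAlgOfEq R hker.symm).trans
      (Ideal.quotientKerAlgEquivOfSurjective (f := Algebra.ofId R B) hφ)).toLinearEquiv
  let e₁ : (R ⧸ (Ideal.ofList rs • ⊤ : Submodule R R)) ≃ₗ[R] B :=
    (Submodule.quotEquivOfEq _ _ (by simp)).trans e₀
  have : Projective (ModuleCat.of R R) := inferInstance
  have h0 : HasProjectiveDimensionLT (ModuleCat.of R R) 1 := inferInstance
  have hq := pdLT_quot_ofList rs (ModuleCat.of R R) 1 hrs h0
  have hB' : HasProjectiveDimensionLT (ModuleCat.of R B) (1 + rs.length) :=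
    hasProjectiveDimensionLT_of_iso e₁.toModuleIso _
  have hF := pdLT_pi B hB' (Module.finrank B M)
  rw [add_comm]
  exact hasProjectiveDimensionLT_of_iso
    (((b.equivFun.restrictScalars R).symm.trans p'.symm).toModuleIso) _

end Alg

variable {X Y : Scheme.{u}} {f : X ⟶ Y}

/-- At every point the stalk of the direct image has finite projective dimension. -/
theorem exists_pdAt_push [IsLocallyNoetherian Y] (hf : Mor2.IsRegularClosedImmersion f) {F : X.Modules}
    (hF : FlatMod.IsFinLocFree F) (y : Y) : ∃ d, PdAt y d ((Scheme.Modules.pushforward f).obj F) := by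
  have := hf.1
  by_cases hy : y ∈ Set.range f
  · obtain ⟨x, rfl⟩ := hy
    obtain ⟨U, hU, hxU, rs, hrs, hI⟩ := hf.2 x
    letI := Y.presheaf.algebra_section_stalk (⟨f x, hxU⟩ : U)
    haveI := hU.isLocalization_stalk ⟨f x, hxU⟩
    have hreg : IsWeaklyRegular (Y.presheaf.stalk (f x)) (rs.map (Y.presheaf.germ U (f x) hxU).hom) :=
      IsWeaklyRegular.of_isLocalization (Y.presheaf.stalk (f x)) (hU.primeIdealOf ⟨f x, hxU⟩).asIdeal.primeCompl
        hrs.toIsWeaklyRegular
    have hker : RingHom.ker (f.stalkMap x).hom = Ideal.ofList (rs.map (Y.presheaf.germ U (f x) hxU).hom) := by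
      rw [FComplLib.ker_stalkMap f x ⟨U, hU⟩ hxU, hI, Ideal.map_ofList]
    have hfree : Module.Free (X.presheaf.stalk x) (F.presheaf.stalk x) := MiscFlat6.free_stalk_of_isFinLocFree hF x
    have : IsLocallyNoetherian X := LocallyOfFiniteType.isLocallyNoetherian f
    have hfin : Module.Finite (X.presheaf.stalk x) ((DerSch.stalkFunctor X x).obj F) := by
      obtain ⟨U', n, e, hx', -, hspan⟩ := MiscFlat6.exists_spanning_nhd ((isCoh_of_vb hF).2) x
      exact MiscFlat6.finite_stalk (hspan x hx')
    haveI : Module.Free (X.presheaf.stalk x) ((DerSch.stalkFunctor X x).obj F) := hfree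
    exact ⟨_, pdLT_of_free_quot (f.stalkMap x).hom (f.stalkMap_surjective x) _ hreg hker
      ((DerSch.stalkFunctor X x).obj F) _ (ProjClosedImmLib.pS f x F) (ProjClosedImmLib.pS_bijective f x F)
      (ProjClosedImmLib.pS_smul f x F)⟩
  · refine ⟨0, ?_⟩
    have : Subsingleton ((DevissLib.St y).obj ((Scheme.Modules.pushforward f).obj F)) :=
      ProjClosedImmLib.subsingleton_stalk f F hy
    have h : IsZero ((DevissLib.St y).obj ((Scheme.Modules.pushforward f).obj F)) :=
      ModuleCat.isZero_of_subsingleton (M := (DevissLib.St y).obj ((Scheme.Modules.pushforward f).obj F))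
    have := h.hasProjectiveDimensionLT_zero
    exact hasProjectiveDimensionLT_of_ge _ 0 _ (Nat.zero_le _)

theorem isCoh_push_of_isClosedImmersion [IsLocallyNoetherian Y] (f : X ⟶ Y) [IsClosedImmersion f] {F : X.Modules}
    (hF : Coh.IsCoh F) : Coh.IsCoh ((Scheme.Modules.pushforward f).obj F) :=
  QCohLib.isCoh_push_finite f F hF

/-- Direct images along regular closed immersions have bounded projective dimension. -/
theorem exists_pd_push [IsLocallyNoetherian Y] [CompactSpace Y] (hY : KRR.HasEnoughLocFree Y)
    (hf : Mor2.IsRegularClosedImmersion f) {F : X.Modules}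
    (hF : FlatMod.IsFinLocFree F) : ∃ d, Pd d ((Scheme.Modules.pushforward f).obj F) := by
  have := hf.1
  have hM := isCoh_push_of_isClosedImmersion f (isCoh_of_vb hF)
  obtain ⟨d, hd⟩ := isCompact_univ.elim_directed_cover (fun d => {y : Y | PdAt y d ((Scheme.Modules.pushforward f).obj F)})
    (fun d => isOpen_pdAt hY d hM)
    (fun y _ => Set.mem_iUnion.2 (exists_pdAt_push hf hF y))
    (Monotone.directed_le fun d e hde y hy => hy.mono hde)
  exact ⟨d, fun y => hd (Set.mem_univ y)⟩

end VBResLib
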