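import Groth.Agent.VBResLib.Basic

/-!
# Finite resolutions by finite locally free modules
-/

set_option autoImplicit false

universe u v w

open CategoryTheory CategoryTheory.Limits AlgebraicGeometry TopologicalSpace Opposite
open DevissLib (St)

namespace VBResLib

section Abstract

variable {C : Type w} [Category.{v} C] [Abelian C]

/-- A resolution splits into short exact sequences. -/
theorem exists_syzygies (L : ChainComplex C ℕ) {A : C} (hex : ∀ i, 1 ≤ i → L.ExactAt i) (e : L.homology 0 ≅ A) :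
    ∃ Z : ℕ → C, Z 0 = A ∧ (∀ j, Z (j + 2) = L.cycles (j + 1)) ∧
      ∀ j, ∃ S : ShortComplex C, S.ShortExact ∧ S.X₂ = L.X j ∧ Nonempty (S.X₁ ≅ Z (j + 1)) ∧
        Nonempty (S.X₃ ≅ Z j) := by
  let ψ : L.opcycles 0 ⟶ A := (L.isoHomologyι 0 0 (by simp) (L.shape _ _ (by simp))).inv ≫ e.hom
  let p : L.X 0 ⟶ A := L.pOpcycles 0 ≫ ψ
  have hp : L.d 1 0 ≫ p = 0 := by simp [p]
  have hd : L.descOpcycles p 1 (by simp) hp = ψ := by
    rw [← cancel_epi (L.pOpcycles 0)]
    simp [p]
  have hiso : IsIso (L.descOpcycles p 1 (by simp) hp) := by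
    rw [hd]; dsimp [ψ]; infer_instance
  obtain ⟨hexact, hepi⟩ := (ChainComplex.isIso_descOpcycles_iff L p hp).1 hiso
  let Z : ℕ → C := fun j => match j with
    | 0 => A
    | 1 => kernel p
    | j + 2 => L.cycles (j + 1)
  refine ⟨Z, rfl, fun j => rfl, fun j => ?_⟩
  match j with
  | 0 => exact ⟨K0ResLib.kerSeq p, K0ResLib.kerSeq_shortExact p, rfl, ⟨Iso.refl _⟩, ⟨Iso.refl _⟩⟩
  | 1 =>
    let q : L.X 1 ⟶ kernel p := kernel.lift p (L.d 1 0) hp
    have : Epi q := hexact.epi_kernelLift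
    refine ⟨ShortComplex.mk (L.iCycles 1) q ?_, { exact := ?_, mono_f := inferInstance, epi_g := this }, rfl,
      ⟨Iso.refl _⟩, ⟨Iso.refl _⟩⟩
    · rw [← cancel_mono (kernel.ι p)]
      simp [q]
    · refine ShortComplex.exact_of_f_is_kernel _ ?_
      exact isKernelOfComp (kernel.ι p) (f := q) (h := L.d 1 0) (L.cyclesIsKernel 1 0 (by simp))
        (by rw [← cancel_mono (kernel.ι p)]; simp [q]) (kernel.lift_ι p _ hp)
  | j + 2 =>
    have : Epi (L.toCycles (j + 2) (j + 1)) := by
      have h := (L.exactAt_iff (j + 1)).1 (hex (j + 1) (Nat.le_add_left 1 j))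
      rw [ShortComplex.exact_iff_epi_toCycles] at h
      have hp : (ComplexShape.down ℕ).prev (j + 1) = j + 2 := by simp
      rw [← hp]
      exact h
    refine ⟨ShortComplex.mk (L.iCycles (j + 2)) (L.toCycles (j + 2) (j + 1)) ?_,
      { exact := ?_, mono_f := inferInstance, epi_g := this }, rfl, ⟨Iso.refl _⟩, ⟨Iso.refl _⟩⟩
    · rw [← cancel_mono (L.iCycles (j + 1))]
      simp
    · refine ShortComplex.exact_of_f_is_kernel _ ?_
      exact isKernelOfComp (L.iCycles (j + 1)) (f := L.toCycles (j + 2) (j + 1)) (h := L.d (j + 2) (j + 1))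
        (L.cyclesIsKernel (j + 2) (j + 1) (by simp)) (by rw [← cancel_mono (L.iCycles (j + 1))]; simp)
        (L.toCycles_i _ _)

/-- A sequence of short exact sequences splices into a resolution. -/
theorem exists_resolution {A : C} (Z : ℕ → C) (hZ : Z 0 = A) (F : ℕ → C) (i : ∀ j, Z (j + 1) ⟶ F j)
    (q : ∀ j, F j ⟶ Z j) (w : ∀ j, i j ≫ q j = 0) (hS : ∀ j, (ShortComplex.mk (i j) (q j) (w j)).ShortExact) :
    ∃ (L : ChainComplex C ℕ) (π : L ⟶ (ChainComplex.single₀ C).obj A), (∀ j, L.X j = F j) ∧ QuasiIso π := by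
  subst hZ
  have : ∀ j, Mono (i j) := fun j => (hS j).mono_f
  have : ∀ j, Epi (q j) := fun j => (hS j).epi_g
  let L : ChainComplex C ℕ := ChainComplex.of F (fun j => q (j + 1) ≫ i j)
    (fun j => by rw [Category.assoc, reassoc_of% (w (j + 1)), zero_comp, comp_zero])
  have hd : ∀ j, L.d (j + 1) j = q (j + 1) ≫ i j := fun j => ChainComplex.of_d F (fun j => q (j + 1) ≫ i j) j
  have hw : L.d 1 0 ≫ q 0 = 0 := by rw [hd]; exact (Category.assoc _ _ _).trans (by rw [w 0, comp_zero])
  refine ⟨L, (ChainComplex.toSingle₀Equiv L (Z 0)).symm ⟨q 0, hw⟩, fun j => rfl, ⟨fun n => ?_⟩⟩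
  cases n with
  | zero =>
    rw [ChainComplex.quasiIsoAt₀_iff, ShortComplex.quasiIso_iff_of_zeros']
    · refine (ShortComplex.exact_and_epi_g_iff_of_iso (S₂ := ShortComplex.mk (L.d 1 0) (q 0) hw) ?_).2 ⟨?_, inferInstance⟩
      · exact ShortComplex.isoMk (Iso.refl _) (Iso.refl _) (Iso.refl _) ((Category.id_comp _).trans (Category.comp_id _).symm)
          (by simp; exact (Category.id_comp _).trans (Category.comp_id _).symm)
      · rw [ShortComplex.exact_iff_exact_up_to_refinements]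
        intro T x hx
        obtain ⟨T₁, π₁, hπ₁, y, hy⟩ := (hS 0).exact.exact_up_to_refinements x hx
        obtain ⟨T₂, π₂, hπ₂, z, hz⟩ := surjective_up_to_refinements_of_epi (q 1) y
        refine ⟨T₂, π₂ ≫ π₁, epi_comp _ _, z, ?_⟩
        refine Eq.trans ?_ (z ≫= hd 0).symm
        refine Eq.trans ?_ (Category.assoc _ _ _)
        exact (Category.assoc _ _ _).trans ((π₂ ≫= hy).trans ((Category.assoc _ _ _).symm.trans (hz =≫ _)))
    all_goals rfl
  | succ n =>
    rw [quasiIsoAt_iff_exactAt']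
    · rw [HomologicalComplex.exactAt_iff' L (n + 2) (n + 1) n (by simp) (by simp),
        ShortComplex.exact_iff_exact_up_to_refinements]
      intro T x hx
      have hx' : x ≫ q (n + 1) = 0 := (cancel_mono (i n)).1
        (((Category.assoc _ _ _).trans ((x ≫= (hd n)).symm.trans hx)).trans zero_comp.symm)
      obtain ⟨T₁, π₁, hπ₁, y, hy⟩ := (hS (n + 1)).exact.exact_up_to_refinements x hx'
      obtain ⟨T₂, π₂, hπ₂, z, hz⟩ := surjective_up_to_refinements_of_epi (q (n + 2)) y
      refine ⟨T₂, π₂ ≫ π₁, epi_comp _ _, z, ?_⟩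
      refine Eq.trans ?_ (z ≫= hd (n + 1)).symm
      refine Eq.trans ?_ (Category.assoc _ _ _)
      exact (Category.assoc _ _ _).trans ((π₂ ≫= hy).trans ((Category.assoc _ _ _).symm.trans (hz =≫ _)))
    · exact ChainComplex.exactAt_succ_single_obj _ _

end Abstract

variable {X : Scheme.{u}}

theorem isCoh_of_vb {M : X.Modules} (h : FlatMod.IsFinLocFree M) : Coh.IsCoh M := by
  have : Coh.IsQCoh M := FinLFAnn.isQCoh_of_isFinLocFree h
  exact ⟨this, (MiscFlat6.isFinLocFree_iff_isFT_free_rank.1 h).1⟩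

variable [IsLocallyNoetherian X]

/-- A finite locally free resolution bounds the projective dimension of the stalks. -/
theorem exists_pd_of_hasLFRes {M : X.Modules} (h : KRR.HasLFRes M) : ∃ d, Pd d M := by
  obtain ⟨n, L, π, hres⟩ := h
  have hq := hres.quasiIso
  have hex : ∀ i, 1 ≤ i → L.ExactAt i := fun i hi => by
    obtain ⟨i, rfl⟩ := Nat.exists_eq_add_of_le' hi
    rw [← quasiIsoAt_iff_exactAt' π (i + 1) (ChainComplex.exactAt_succ_single_obj _ _)]
    infer_instance
  have e : L.homology 0 ≅ M := isoOfQuasiIsoAt π 0 ≪≫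
    HomologicalComplex.singleObjHomologySelfIso (ComplexShape.down ℕ) 0 M
  refine ⟨n + 2, fun x => ?_⟩
  obtain ⟨Z, hZ0, hZ, hS⟩ := exists_syzygies L hex e
  have hzero : IsZero (L.cycles (n + 1)) := (hres.isZero (n + 1) (Nat.lt_succ_self n)).of_mono (L.iCycles (n + 1))
  have key : ∀ k, k ≤ n + 2 → PdAt x k (Z (n + 2 - k)) := by
    intro k
    induction k with
    | zero =>
      intro _
      rw [Nat.sub_zero, hZ]
      exact pdAt_of_vb (vb_of_isZero hzero) x 0
    | succ k ih =>
      intro hk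
      obtain ⟨S, hS', h₂, ⟨e₁⟩, ⟨e₃⟩⟩ := hS (n + 2 - (k + 1))
      have h₁ := ih (by omega)
      rw [show n + 2 - k = n + 2 - (k + 1) + 1 by omega] at h₁
      exact (PdAt.quot hS' (h₁.of_iso e₁.symm) (pdAt_of_vb (h₂ ▸ hres.finLocFree _) x _)).of_iso e₃
  have := key (n + 2) le_rfl
  rwa [Nat.sub_self, hZ0] at this

/-- Bounded projective dimension makes the syzygies of every locally free resolution locally free. -/
theorem vb_cycles {M : X.Modules} {d : ℕ} (hd : Pd d M) (L : ChainComplex X.Modules ℕ)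
    (hL : ∀ i, FlatMod.IsFinLocFree (L.X i)) (hex : ∀ i, 1 ≤ i → L.ExactAt i) (e : L.homology 0 ≅ M) :
    FlatMod.IsFinLocFree (L.cycles (d + 1)) := by
  obtain ⟨Z, hZ0, hZ, hS⟩ := exists_syzygies L hex e
  have hc : Coh.IsCoh (L.cycles (d + 1)) :=
    have : Coh.IsQCoh (L.X d) := (isCoh_of_vb (hL d)).1
    QCohLib.isCoh_of_iso ((L.cyclesIsKernel (d + 1) d (by simp)).conePointUniqueUpToIso (kernelIsKernel _)).symm
      (QCohLib.isCoh_kernel _ (isCoh_of_vb (hL (d + 1))) (isCoh_of_vb (hL d)).1)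
  refine vb_of_pd_zero hc fun x => ?_
  have := pdAt_syzygy (x := x) (d := d) Z (hZ0 ▸ hd x) (fun j => by
    obtain ⟨S, h1, h2, h3, h4⟩ := hS j
    exact ⟨S, h1, h2 ▸ hL j, h3, h4⟩) (d + 2)
  rwa [hZ, show d - (d + 2) = 0 by omega] at this

variable (hX : KRR.HasEnoughLocFree X)

include hX

/-- Coherent modules of bounded projective dimension have finite locally free resolutions. -/
theorem hasLFRes_of_pd {M : X.Modules} (hM : Coh.IsCoh M) {d : ℕ} (hd : Pd d M) : KRR.HasLFRes M := by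
  classical
  have hch : ∀ N : {N : X.Modules // Coh.IsCoh N}, ∃ c : K0ResLib.Cover (KRR.vbP X) N.1,
      FlatMod.IsFinLocFree N.1 → IsIso c.π := by
    intro N
    by_cases h : FlatMod.IsFinLocFree N.1
    · exact ⟨{ L := N.1, π := 𝟙 _, hL := h }, fun _ => inferInstance⟩
    · obtain ⟨E, p, hE, hp⟩ := hX N.1 N.2
      exact ⟨{ L := E, π := p, hL := hE, epi := hp }, fun h' => absurd h' h⟩
  choose c hc using hch
  let K : ℕ → {N : X.Modules // Coh.IsCoh N} := fun j =>
    Nat.rec (motive := fun _ => {N : X.Modules // Coh.IsCoh N}) ⟨M, hM⟩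
      (fun _ N => ⟨kernel (c N).π, QCohLib.isCoh_kernel _ (isCoh_of_vb (c N).hL) N.2.1⟩) j
  have hS : ∀ j, (ShortComplex.mk (kernel.ι (c (K j)).π) (c (K j)).π (kernel.condition _)).ShortExact :=
    fun j => K0ResLib.kerSeq_shortExact _
  obtain ⟨L, π, hLX, hq⟩ := exists_resolution (fun j => (K j).1) (A := M) rfl (fun j => (c (K j)).L)
    (fun j => kernel.ι (c (K j)).π) (fun j => (c (K j)).π) (fun j => kernel.condition _) hS
  refine ⟨d + 1, L, π, ⟨fun i => hLX i ▸ (c (K i)).hL, fun i hi => ?_, hq⟩⟩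
  have hKd : FlatMod.IsFinLocFree (K d).1 := vb_of_pd_zero (K d).2 fun x => by
    have := pdAt_syzygy (x := x) (d := d) (fun j => (K j).1) (hd x)
      (fun j => ⟨_, hS j, (c (K j)).hL, ⟨Iso.refl _⟩, ⟨Iso.refl _⟩⟩) d
    rwa [Nat.sub_self] at this
  have hz : ∀ j, d < j → IsZero (K j).1 := by
    intro j hj
    induction j with
    | zero => omega
    | succ j ih =>
      have hvb : FlatMod.IsFinLocFree (K j).1 := by
        rcases Nat.lt_or_ge d j with h | h
        · exact vb_of_isZero (ih h)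
        · rw [show j = d by omega]; exact hKd
      have := hc _ hvb
      exact isZero_kernel_of_mono (c (K j)).π
  have hlt : d < i := by omega
  have := hc _ (vb_of_isZero (hz i hlt))
  rw [hLX i]
  exact (hz i hlt).of_iso (asIso (c (K i)).π)

theorem isOpen_pdAt : ∀ (d : ℕ) {M : X.Modules}, Coh.IsCoh M → IsOpen {x : X | PdAt x d M}
  | 0, M, hM => by
    convert isOpen_free hM using 1
    ext x
    refine ⟨free_of_pdAt_zero hM, fun h => ?_⟩
    have : Module.Projective (X.presheaf.stalk x) (M.presheaf.stalk x) := @Module.Projective.of_free _ _ _ _ _ h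
    exact (projective_iff_hasProjectiveDimensionLT_one (X := (St x).obj M)).1
      ((IsProjective.iff_projective ((St x).obj M)).1 this)
  | d + 1, M, hM => by
    obtain ⟨E, p, hE, hp⟩ := hX M hM
    convert isOpen_pdAt d (M := kernel p) (QCohLib.isCoh_kernel p (isCoh_of_vb hE) hM.1) using 1
    ext x
    exact ⟨fun h => PdAt.ker (K0ResLib.kerSeq_shortExact p) (d := d + 1) (pdAt_of_vb hE x _) h,
      fun h => PdAt.quot (K0ResLib.kerSeq_shortExact p) h (pdAt_of_vb hE x _)⟩

/-- On a regular Noetherian scheme with enough locally free modules, coherent modules have bounded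
projective dimension. -/
theorem exists_pd_of_regular [CompactSpace X] (hreg : ∀ x : X, IsRegularLocalRing (X.presheaf.stalk x))
    {M : X.Modules} (hM : Coh.IsCoh M) : ∃ d, Pd d M := by
  have : Coh.IsQCoh M := hM.1
  have hcov : (⋃ d, {x : X | PdAt x d M}) = Set.univ := by
    refine Set.eq_univ_of_forall fun x => Set.mem_iUnion.2 ?_
    have := hreg x
    have : Module.Finite (X.presheaf.stalk x) (M.presheaf.stalk x) := DepthLib.finite_stalk M hM.2 x
    refine ⟨(IsLocalRing.maximalIdeal (X.presheaf.stalk x)).spanFinrank, ?_⟩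
    exact CommAlgDim.pdlt_of_isRegularLocalRing (X.presheaf.stalk x) (M.presheaf.stalk x)
  obtain ⟨t, ht⟩ := isCompact_univ.elim_finite_subcover (fun d => {x : X | PdAt x d M})
    (fun d => isOpen_pdAt hX d hM) hcov.ge
  refine ⟨t.sup id, fun x => ?_⟩
  obtain ⟨d, hd, hx⟩ := Set.mem_iUnion₂.1 (ht (Set.mem_univ x))
  exact PdAt.mono (Finset.le_sup (f := id) hd) hx

end VBResLib
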