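import Groth.Prelude.Def_KRR
import Groth.Agent.KHeartLib.CohSupp
import Groth.Agent.MiscFlat6.FreeStalks
import Groth.Agent.DepthLib.RegAB
import Groth.Agent.CommAlgDim.GlobalDim
import Groth.Agent.FlatLib.QStalk
import Groth.Agent.FinLFAnnLib.Main
import Groth.Agent.K0ResLib.Dim
import Mathlib.RingTheory.Spectrum.Prime.FreeLocus

/-!
# Projective dimension of the stalks of coherent modules and locally free resolutions
-/

set_option autoImplicit false

universe u

open CategoryTheory CategoryTheory.Limits AlgebraicGeometry TopologicalSpace Opposite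
open DevissLib (St)

namespace VBResLib

variable {X : Scheme.{u}}

/-- The stalk of `M` at `x` has projective dimension at most `d`. -/
def PdAt (x : X) (d : ℕ) (M : X.Modules) : Prop := HasProjectiveDimensionLT ((St x).obj M) (d + 1)

/-- All stalks of `M` have projective dimension at most `d`. -/
def Pd (d : ℕ) (M : X.Modules) : Prop := ∀ x : X, PdAt x d M

theorem PdAt.mono {x : X} {d e : ℕ} (h : d ≤ e) {M : X.Modules} (hM : PdAt x d M) : PdAt x e M :=
  have : HasProjectiveDimensionLT ((St x).obj M) (d + 1) := hM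
  hasProjectiveDimensionLT_of_ge _ (d + 1) (e + 1) (by omega)

theorem Pd.mono {d e : ℕ} (h : d ≤ e) {M : X.Modules} (hM : Pd d M) : Pd e M := fun x => (hM x).mono h

theorem shortExact_stalk {S : ShortComplex X.Modules} (hS : S.ShortExact) (x : X) : (S.map (St x)).ShortExact :=
  hS.map_of_exact _

theorem PdAt.of_iso {x : X} {d : ℕ} {M N : X.Modules} (e : M ≅ N) (h : PdAt x d M) : PdAt x d N :=
  have : HasProjectiveDimensionLT ((St x).obj M) (d + 1) := h
  hasProjectiveDimensionLT_of_iso ((St x).mapIso e) (d + 1)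

theorem pdAt_of_vb {M : X.Modules} (h : FlatMod.IsFinLocFree M) (x : X) (d : ℕ) : PdAt x d M := by
  refine PdAt.mono (Nat.zero_le d) ?_
  have : Coh.IsQCoh M := FinLFAnn.isQCoh_of_isFinLocFree h
  have hf : Module.Free (X.presheaf.stalk x) (M.presheaf.stalk x) := MiscFlat6.free_stalk_of_isFinLocFree h x
  have hp : Module.Projective (X.presheaf.stalk x) (M.presheaf.stalk x) := Module.Projective.of_free
  exact (projective_iff_hasProjectiveDimensionLT_one (X := (St x).obj M)).1
    ((IsProjective.iff_projective ((St x).obj M)).1 hp)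

theorem PdAt.ker {S : ShortComplex X.Modules} (hS : S.ShortExact) {x : X} {d : ℕ} (h₂ : PdAt x (d - 1) S.X₂)
    (h₃ : PdAt x d S.X₃) : PdAt x (d - 1) S.X₁ := by
  refine (shortExact_stalk hS x).hasProjectiveDimensionLT_X₁ (d - 1 + 1) h₂ ?_
  have : HasProjectiveDimensionLT (S.map (St x)).X₃ (d + 1) := h₃
  exact hasProjectiveDimensionLT_of_ge _ (d + 1) _ (by omega)

theorem PdAt.ext {S : ShortComplex X.Modules} (hS : S.ShortExact) {x : X} {d : ℕ} (h₁ : PdAt x d S.X₁)
    (h₃ : PdAt x d S.X₃) : PdAt x d S.X₂ :=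
  (shortExact_stalk hS x).hasProjectiveDimensionLT_X₂ (d + 1) h₁ h₃

theorem PdAt.quot {S : ShortComplex X.Modules} (hS : S.ShortExact) {x : X} {d : ℕ} (h₁ : PdAt x d S.X₁)
    (h₂ : PdAt x (d + 1) S.X₂) : PdAt x (d + 1) S.X₃ :=
  (shortExact_stalk hS x).hasProjectiveDimensionLT_X₃ (d + 1) h₁ h₂

theorem free_of_pdAt_zero {M : X.Modules} (hM : Coh.IsCoh M) {x : X} (h : PdAt x 0 M) :
    Module.Free (X.presheaf.stalk x) (M.presheaf.stalk x) := by
  have : Coh.IsQCoh M := hM.1
  have : Module.Finite (X.presheaf.stalk x) (M.presheaf.stalk x) := DepthLib.finite_stalk M hM.2 x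
  have hp : Module.Projective (X.presheaf.stalk x) (M.presheaf.stalk x) :=
    (IsProjective.iff_projective ((St x).obj M)).2 ((projective_iff_hasProjectiveDimensionLT_one (X := (St x).obj M)).2 h)
  exact Module.free_of_flat_of_isLocalRing

variable [IsLocallyNoetherian X]


theorem vb_of_pd_zero {M : X.Modules} (hM : Coh.IsCoh M) (h : Pd 0 M) : FlatMod.IsFinLocFree M := by
  have : Coh.IsQCoh M := hM.1
  exact MiscFlat6.isFP_and_free_iff.1 ⟨QCohLib.isFP_of_isCoh M hM, fun x => free_of_pdAt_zero hM (h x)⟩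

theorem vb_of_isZero {M : X.Modules} (h : IsZero M) : FlatMod.IsFinLocFree M :=
  vb_of_pd_zero (DevissLib.isCoh_of_isZero h) fun x =>
    have : HasProjectiveDimensionLT ((St x).obj M) 0 :=
      (hasProjectiveDimensionLT_zero_iff_isZero _).2 ((St x).map_isZero h)
    hasProjectiveDimensionLT_of_ge _ 0 _ (Nat.zero_le _)

theorem vb_of_iso {M N : X.Modules} (e : M ≅ N) (hM : Coh.IsCoh M) (h : FlatMod.IsFinLocFree M) :
    FlatMod.IsFinLocFree N :=
  vb_of_pd_zero (QCohLib.isCoh_of_iso e hM) fun x => (pdAt_of_vb h x 0).of_iso e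

/-- The free locus of a coherent module is open. -/
theorem isOpen_free {M : X.Modules} (hM : Coh.IsCoh M) :
    IsOpen {x : X | Module.Free (X.presheaf.stalk x) (M.presheaf.stalk x)} := by
  have : Coh.IsQCoh M := hM.1
  refine isOpen_iff_forall_mem_open.2 fun x hx => ?_
  obtain ⟨U, hU, hxU⟩ := QCohLib.exists_affine_nhd x
  have : IsNoetherianRing Γ(X, U) := IsLocallyNoetherian.component_noetherian ⟨U, hU⟩
  have := QCohLib.finite_of_isFT hM.2 hU
  have : Module.FinitePresentation Γ(X, U) Γ(M, U) := Module.finitePresentation_of_finite _ _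
  have key : ∀ (y : X) (hy : y ∈ U), Module.Free (X.presheaf.stalk y) (M.presheaf.stalk y) ↔
      hU.primeIdealOf ⟨y, hy⟩ ∈ Module.freeLocus Γ(X, U) Γ(M, U) := by
    intro y hy
    let := Module.compHom (M.presheaf.stalk y) (X.presheaf.germ U y hy).hom
    let : Algebra Γ(X, U) (X.presheaf.stalk y) := (X.presheaf.germ U y hy).hom.toAlgebra
    have : IsScalarTower Γ(X, U) (X.presheaf.stalk y) (M.presheaf.stalk y) :=
      IsScalarTower.of_algebraMap_smul fun _ _ => rfl
    have : IsLocalization.AtPrime (X.presheaf.stalk y) (hU.primeIdealOf ⟨y, hy⟩).asIdeal :=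
      hU.isLocalization_stalk ⟨y, hy⟩
    have := FlatLib.isLocalizedModule_germLin M hU hy
    exact (Module.mem_freeLocus_of_isLocalization (hU.primeIdealOf ⟨y, hy⟩) (X.presheaf.stalk y)
      (M.presheaf.stalk y) (FlatLib.germLin M hy)).symm
  have hcont : Continuous fun y : U => hU.primeIdealOf ⟨y.1, y.2⟩ := hU.isoSpec.hom.continuous
  refine ⟨Subtype.val '' ((fun y : U => hU.primeIdealOf ⟨y.1, y.2⟩) ⁻¹' Module.freeLocus Γ(X, U) Γ(M, U)),
    ?_, U.2.isOpenMap_subtype_val _ (Module.isOpen_freeLocus.preimage hcont), ⟨⟨x, hxU⟩, (key x hxU).1 hx, rfl⟩⟩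
  rintro _ ⟨⟨y, hy⟩, hy', rfl⟩
  exact (key y hy).2 hy'

omit [IsLocallyNoetherian X] in
/-- Descending the projective dimension along a sequence of short exact sequences with locally free middle terms. -/
theorem pdAt_syzygy {x : X} {d : ℕ} (Z : ℕ → X.Modules) (hd : PdAt x d (Z 0))
    (hS : ∀ j, ∃ S : ShortComplex X.Modules, S.ShortExact ∧ FlatMod.IsFinLocFree S.X₂ ∧
      Nonempty (S.X₁ ≅ Z (j + 1)) ∧ Nonempty (S.X₃ ≅ Z j)) :
    ∀ j, PdAt x (d - j) (Z j)
  | 0 => hd
  | j + 1 => by
    obtain ⟨S, hS', hvb, ⟨e₁⟩, ⟨e₃⟩⟩ := hS j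
    have := PdAt.ker hS' (d := d - j) (pdAt_of_vb hvb x _) ((pdAt_syzygy Z hd hS j).of_iso e₃.symm)
    exact (this.of_iso e₁).mono (by omega)

end VBResLib
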