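import Groth.Agent.VBResLib.Res

/-!
# The hypotheses of the resolution theorem for locally free modules
-/

set_option autoImplicit false

universe u

open CategoryTheory CategoryTheory.Limits AlgebraicGeometry

namespace VBResLib

variable {X : Scheme.{u}}

instance vbP_closedUnderIso [IsLocallyNoetherian X] : (KRR.vbP X).IsClosedUnderIsomorphisms where
  of_iso e h := vb_of_iso e (isCoh_of_vb h) h

/-- The first term of a short exact sequence of coherent modules. -/
theorem isCoh_X₁ [IsLocallyNoetherian X] {S : ShortComplex X.Modules} (hS : S.ShortExact)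
    (h₂ : Coh.IsCoh S.X₂) (h₃ : Coh.IsCoh S.X₃) : Coh.IsCoh S.X₁ :=
  have := hS.mono_f
  QCohLib.isCoh_of_iso ((hS.fIsKernel).conePointUniqueUpToIso (kernelIsKernel S.g)).symm
    (QCohLib.isCoh_kernel S.g h₂ h₃.1)

theorem hyp_of_class [IsLocallyNoetherian X] (hX : KRR.HasEnoughLocFree X) (P₁ : ObjectProperty X.Modules)
    (hle : ∀ M, FlatMod.IsFinLocFree M → P₁ M) (hcoh : ∀ M, P₁ M → Coh.IsCoh M)
    (hext₁ : ∀ S : ShortComplex X.Modules, S.ShortExact → P₁ S.X₁ → P₁ S.X₃ → P₁ S.X₂)
    (h1₁ : ∀ S : ShortComplex X.Modules, S.ShortExact → P₁ S.X₂ → P₁ S.X₃ → P₁ S.X₁) :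
    K0ResLib.Hyp (KRR.vbP X) P₁ where
  hle := hle
  hext₀ S hS h₁ h₃ := vb_of_pd_zero (Groth.Agent.KHeartLib.isCoh_of_shortExact hS (isCoh_of_vb h₁) (isCoh_of_vb h₃))
    fun x => PdAt.ext hS (pdAt_of_vb h₁ x 0) (pdAt_of_vb h₃ x 0)
  hext₁ := hext₁
  h1₀ S hS h₂ h₃ := vb_of_pd_zero (isCoh_X₁ hS (isCoh_of_vb h₂) (isCoh_of_vb h₃))
    fun x => PdAt.ker hS (d := 1) (pdAt_of_vb h₂ x 0) (pdAt_of_vb h₃ x 1)
  h1₁ := h1₁
  h2 A B D u v hu hA hB hD := by
    have : Epi (pullback.snd u v) := inferInstance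
    have hQ : Coh.IsCoh (pullback u v) :=
      have : Coh.IsQCoh A := (hcoh A hA).1
      have : Coh.IsQCoh D := (hcoh D hD).1
      Groth.Agent.KHeartLib.isCoh_of_shortExact (K0ResLib.kerSeq_shortExact (pullback.snd u v))
        (QCohLib.isCoh_of_iso
          (({ hom := kernel.lift _ (pullback.lift (kernel.ι u) 0 (by simp)) (pullback.lift_snd _ _ _)
              inv := kernel.map (pullback.snd u v) u (pullback.fst u v) v pullback.condition.symm
              hom_inv_id := by
                rw [← cancel_mono (kernel.ι _)]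
                simp [pullback.lift_fst]
              inv_hom_id := by
                rw [← cancel_mono (kernel.ι _)]
                apply pullback.hom_ext <;> simp [kernel.condition, pullback.lift_fst, pullback.lift_snd] }
            : kernel u ≅ kernel (pullback.snd u v)))
          (QCohLib.isCoh_kernel u (hcoh A hA) (hcoh B hB).1)) (hcoh D hD)
    obtain ⟨E, p, hE, hp⟩ := hX _ hQ
    exact ⟨E, p ≫ pullback.snd u v, p ≫ pullback.fst u v, hE, epi_comp _ _,
      by rw [Category.assoc, Category.assoc, pullback.condition]⟩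

end VBResLib
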