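import Groth.Agent.MiscFlat6.TensorGG
import Groth.Agent.CurveVBLib.Basic
import Groth.Agent.CurvLib.EulerTensor
import Groth.Agent.KHeartLib.Classes
import Groth.Agent.ProjClosedImmLib.Stalk
import Groth.Agent.FComplLib.Modules
import Groth.Agent.VBResLib.Hyp
import Groth.Prelude.Def_KRR

/-!
# Quotients of finite free modules and the rank of a bundle on a connected scheme
-/

set_option autoImplicit false
set_option linter.style.haveILetI false

universe u

open CategoryTheory CategoryTheory.Limits AlgebraicGeometry TopologicalSpace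
open DevissLib (St)

namespace VBResLib

variable {X : Scheme.{u}}

/-- Finite free modules are locally free of constant rank. -/
theorem rank_freeMod (n : ℕ) : FlatMod.IsFinLocFreeOfRank n (FlatMod.freeMod X n) := fun _ =>
  have : PreservesColimitsOfSize.{0, 0} (Scheme.Modules.restrictFunctor (⊤ : X.Opens).ι) :=
    (Scheme.Modules.restrictAdjunction (⊤ : X.Opens).ι).leftAdjoint_preservesColimits
  ⟨⊤, trivial, ⟨PreservesCoproduct.iso (Scheme.Modules.restrictFunctor (⊤ : X.Opens).ι) _ ≪≫
    Sigma.mapIso fun _ => Scheme.Modules.restrictUnitIso _⟩⟩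

theorem vb_of_rank {n : ℕ} {E : X.Modules} (h : FlatMod.IsFinLocFreeOfRank n E) : FlatMod.IsFinLocFree E :=
  fun x => by
    obtain ⟨U, hU, e⟩ := h x
    exact ⟨U, n, hU, e⟩

/-- A bundle on a connected scheme has constant rank. -/
theorem exists_rank [ConnectedSpace X] {E : X.Modules} (hE : FlatMod.IsFinLocFree E) :
    ∃ n : ℕ, FlatMod.IsFinLocFreeOfRank n E := by
  let r : X → ℕ := fun x => Module.finrank (X.presheaf.stalk x) ((St x).obj E)
  have hr : ∀ {U : X.Opens} {n : ℕ}, (E.restrict U.ι ≅ FlatMod.freeMod (U : Scheme.{u}) n) → ∀ y ∈ U, r y = n := by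
    intro U n e y hy
    obtain ⟨φ⟩ := CurveVBLib.nonempty_stalk_pi_on e hy
    exact φ.finrank_eq.trans (Module.finrank_fin_fun _)
  have hc : IsLocallyConstant r := (IsLocallyConstant.iff_exists_open r).2 fun x => by
    obtain ⟨U, n, hxU, ⟨e⟩⟩ := hE x
    exact ⟨U, U.2, hxU, fun y hy => (hr e y hy).trans (hr e x hxU).symm⟩
  obtain ⟨x₀⟩ := (inferInstance : Nonempty X)
  refine ⟨r x₀, fun x => ?_⟩
  obtain ⟨U, n, hxU, ⟨e⟩⟩ := hE x
  obtain rfl : n = r x₀ := (hr e x hxU).symm.trans (hc.apply_eq_of_isPreconnected isPreconnected_univ trivial trivial)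
  exact ⟨U, hxU, ⟨e⟩⟩

/-- A globally generated coherent module is a quotient of a finite free module. -/
theorem exists_epi_free_of_gg [CompactSpace X] {F : X.Modules} (hF : Coh.IsCoh F)
    (hg : Curv2.IsGloballyGenerated F) : ∃ (m : ℕ) (q : FlatMod.freeMod X m ⟶ F), Epi q := by
  classical
  haveI := hF.1
  obtain ⟨ι, p, hp⟩ := hg
  let f : ι → (Coh.structureModule X ⟶ F) := fun j => SheafOfModules.ιFree j ≫ p
  let q : ∀ S : Finset ι, FlatMod.freeMod X S.card ⟶ F := fun S => Sigma.desc fun i => f (S.equivFin.symm i).1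
  let good : Finset ι → Set X := fun S => (CohB1.support (cokernel (q S)))ᶜ
  have hopen : ∀ S, IsOpen (good S) := fun S =>
    (QCohLib.isClosed_support _ (QCohLib.isCoh_cokernel (q S) (CurvLib.isQCoh_freeMod X _) hF).2).isOpen_compl
  have hgood : ∀ (S : Finset ι) (x : X), x ∈ good S ↔ Function.Surjective ((St x).map (q S)).hom := by
    intro S x
    rw [Set.mem_compl_iff, DevissLib.notMem_support_iff, ← ModuleCat.epi_iff_surjective]
    have e : (St x).obj (cokernel (q S)) ≅ cokernel ((St x).map (q S)) := PreservesCokernel.iso (St x) (q S)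
    constructor
    · intro h
      exact Preadditive.epi_of_isZero_cokernel _ (h.of_iso e.symm)
    · intro h
      exact (isZero_cokernel_of_epi _).of_iso e
  have hcov : ∀ x : X, ∃ S, x ∈ good S := by
    intro x
    let R := X.presheaf.stalk x
    let N : ι → Submodule R ((St x).obj F) := fun j => LinearMap.range ((St x).map (f j)).hom
    have htop : ⨆ j, N j = ⊤ := by
      by_contra hne
      let π : (St x).obj F ⟶ ModuleCat.of R ((St x).obj F ⧸ (⨆ j, N j)) := ModuleCat.ofHom (Submodule.mkQ (⨆ j, N j))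
      have hzero : (St x).map p ≫ π = 0 := by
        refine (isColimitOfPreserves (St x) (coproductIsCoproduct fun _ : ι => SheafOfModules.unit X.ringCatSheaf)).hom_ext
          fun ⟨j⟩ => ModuleCat.hom_ext (LinearMap.ext fun a => ?_)
        change π (((St x).map p) (((St x).map (SheafOfModules.ιFree j)) a)) = 0
        rw [← ConcreteCategory.comp_apply ((St x).map (SheafOfModules.ιFree j)) ((St x).map p)]
        refine (Submodule.Quotient.mk_eq_zero (⨆ j, N j)).2 (Submodule.mem_iSup_of_mem j ?_)
        exact ⟨a, by simp only [f, Functor.map_comp]⟩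
      have hpS : Epi ((St x).map p) := @Functor.map_epi _ _ _ _ (St x) _ _ _ p hp
      have : π = 0 := (@cancel_epi _ _ _ _ _ ((St x).map p) hpS _ _).1 (hzero.trans comp_zero.symm)
      refine hne (eq_top_iff.2 fun a _ => (Submodule.Quotient.mk_eq_zero _).1 ?_)
      exact congr($this a)
    have : Module.Finite R ((St x).obj F) := DepthLib.finite_stalk F hF.2 x
    obtain ⟨S, hS⟩ := CompleteLattice.IsCompactElement.exists_finset_of_le_iSup _
      ((Submodule.fg_iff_compact _).1 (Module.Finite.fg_top (R := R) (M := (St x).obj F))) N htop.ge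
    refine ⟨S, (hgood S x).2 (LinearMap.range_eq_top.1 (eq_top_iff.2 (hS.trans (iSup₂_le fun j hj => ?_))))⟩
    rintro _ ⟨a, rfl⟩
    refine ⟨(St x).map (Sigma.ι (fun _ : Fin S.card => Coh.structureModule X) (S.equivFin ⟨j, hj⟩)) a, ?_⟩
    rw [← ConcreteCategory.comp_apply, ← Functor.map_comp, Sigma.ι_desc, Equiv.symm_apply_apply]
  have hmono : ∀ {S T : Finset ι}, S ⊆ T → good S ⊆ good T := by
    intro S T hST x hx
    rw [hgood] at hx ⊢
    let s : FlatMod.freeMod X S.card ⟶ FlatMod.freeMod X T.card := Sigma.desc fun i =>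
      Sigma.ι (fun _ : Fin T.card => Coh.structureModule X) (T.equivFin ⟨(S.equivFin.symm i).1, hST (S.equivFin.symm i).2⟩)
    have : s ≫ q T = q S := Sigma.hom_ext _ _ fun i => by
      simp only [s, q, Sigma.ι_desc_assoc, Sigma.ι_desc, Equiv.symm_apply_apply]
    rw [← this, Functor.map_comp, ModuleCat.hom_comp, LinearMap.coe_comp] at hx
    exact hx.of_comp
  obtain ⟨S, hS⟩ := isCompact_univ.elim_directed_cover good hopen
    (fun x _ => Set.mem_iUnion.2 (hcov x))
    (fun S T => ⟨S ∪ T, hmono Finset.subset_union_left, hmono Finset.subset_union_right⟩)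
  refine ⟨S.card, q S, ?_⟩
  refine FComplLib.epi_of_stalks (q S) fun x => ?_
  exact (ModuleCat.epi_iff_surjective _).2 ((hgood S x).1 (hS (Set.mem_univ x)))

end VBResLib
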