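import Groth.Agent.KFlatLib.StalkPull
import Groth.Agent.MiscFlat6.FreeStalks
import Groth.Agent.CurvLib.EulerTensor
import Groth.Agent.KFlatLib.PerfectPull
import Groth.Agent.KHeartLib.Classes
import Groth.Prelude.Def_KRR

/-!
# Pull-back of `K₀` of locally free modules
-/

set_option autoImplicit false
set_option linter.style.haveILetI false

universe u

open CategoryTheory CategoryTheory.Limits AlgebraicGeometry
open Groth.Agent.KHeartLib

namespace VBResLib

variable {X Y : Scheme.{u}}

/-- Pull-back preserves sequences with locally free quotient. -/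
theorem shortExact_pullback_of_vb (g : X ⟶ Y) {S : ShortComplex Y.Modules} (hS : S.ShortExact)
    (h₃ : FlatMod.IsFinLocFree S.X₃) : (S.map (Scheme.Modules.pullback g)).ShortExact := by
  refine CurvLib.shortExact_of_stalks _ fun x => ?_
  haveI : Module.Free (Y.presheaf.stalk (g x)) ((DerSch.stalkFunctor Y (g x)).obj S.X₃) :=
    MiscFlat6.free_stalk_of_isFinLocFree h₃ (g x)
  haveI : Projective (S.map (DerSch.stalkFunctor Y (g x))).X₃ :=
    (IsProjective.iff_projective (R := Y.presheaf.stalk (g x)) ((DerSch.stalkFunctor Y (g x)).obj S.X₃)).1 inferInstance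
  have σ := (hS.map_of_exact (DerSch.stalkFunctor Y (g x))).splittingOfProjective
  let F := ModuleCat.extendScalars.{u, u, u} (g.stalkMap x).hom
  haveI : F.Additive := (ModuleCat.extendRestrictScalarsAdj (g.stalkMap x).hom).left_adjoint_additive
  refine ShortComplex.shortExact_of_iso (S.mapNatIso (KFlatLib.stalkPullIso g x)).symm ?_
  exact (σ.map F).shortExact

/-- The pull-back on `K₀` of locally free modules. -/
theorem exists_kPull (g : X ⟶ Y) : ∃ ψ : SGA6.Kvb Y →+ SGA6.Kvb X, ∀ E : Y.Modules, FlatMod.IsFinLocFree E →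
    ψ (KRR.cl Y E) = KRR.cl X ((Scheme.Modules.pullback g).obj E) :=
  exists_lift_sub (KRR.vbP Y) (fun E => KRR.cl X ((Scheme.Modules.pullback g).obj E)) fun _ hS h₁ h₂ h₃ =>
    clSub_add (KRR.vbP X) _ (shortExact_pullback_of_vb g hS h₃) (KFlatLib.isFinLocFree_pull g h₁)
      (KFlatLib.isFinLocFree_pull g h₂) (KFlatLib.isFinLocFree_pull g h₃)

end VBResLib
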