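import Groth.Agent.VBResLib.KPush
import Groth.Agent.CurvLib.EulerTensor
import Groth.Agent.S2297

/-!
# Exact functors on coherent modules with finite locally free resolutions
-/

set_option autoImplicit false
set_option linter.style.haveILetI false

universe u

open CategoryTheory CategoryTheory.Limits AlgebraicGeometry
open Groth.Agent.KHeartLib

namespace VBResLib

variable {Y Z : Scheme.{u}} [IsLocallyNoetherian Y] [IsLocallyNoetherian Z]

/-- The map from `K₀` of locally free modules to `K₀` of modules with resolutions. -/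
noncomputable def toRes (hY : KRR.HasEnoughLocFree Y) : SGA6.Kvb Y →+ KZero.K0sub (resP Y) :=
  SGA6.mapSub (𝟭 Y.Modules) (KRR.vbP Y) (resP Y) fun _ hM => resP_of_vb hY hM

theorem toRes_injective [CompactSpace Y] (hY : KRR.HasEnoughLocFree Y) : Function.Injective (toRes hY) := by
  haveI : AlgebraicGeometry.IsNoetherian Y := {}
  exact (Groth.Agent.S3745.result Y hY fun _ hM => resP_of_vb hY hM).1

theorem toRes_cl (hY : KRR.HasEnoughLocFree Y) {E : Y.Modules} (hE : FlatMod.IsFinLocFree E) :
    toRes hY (KRR.cl Y E) = KZero.clSub (resP Y) E :=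
  mapSub_clSub (𝟭 Y.Modules) (KRR.vbP Y) (resP Y) _ hE

theorem toRes_euler (hY : KRR.HasEnoughLocFree Y) {M : Y.Modules} (hM : resP Y M) {n : ℕ}
    {L : ChainComplex Y.Modules ℕ} {π : L ⟶ (ChainComplex.single₀ Y.Modules).obj M} (h : KRR.IsLFRes M n L π) :
    toRes hY (∑ k ∈ Finset.range (n + 1), (-1 : ℤ) ^ k • KRR.cl Y (L.X k)) = KZero.clSub (resP Y) M := by
  rw [clSub_res_euler hY hM h, map_sum]
  exact Finset.sum_congr rfl fun k _ => by rw [map_zsmul, toRes_cl hY (h.finLocFree k)]

variable (F : Y.Modules ⥤ Z.Modules) [F.PreservesZeroMorphisms]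

/-- An exact functor sending bundles to modules with resolutions preserves having resolutions. -/
theorem resP_map (hY : KRR.HasEnoughLocFree Y) (hZ : KRR.HasEnoughLocFree Z)
    (hF : ∀ S : ShortComplex Y.Modules, S.ShortExact → (S.map F).ShortExact)
    (hcoh : ∀ M, Coh.IsCoh M → Coh.IsCoh (F.obj M))
    (hvb : ∀ E, FlatMod.IsFinLocFree E → resP Z (F.obj E)) {M : Y.Modules} (hM : resP Y M) :
    resP Z (F.obj M) := by
  obtain ⟨hc, d, hd⟩ := (resP_iff hY).1 hM
  clear hM
  induction d generalizing M with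
  | zero => exact hvb M (vb_of_pd_zero hc hd)
  | succ d ih =>
    obtain ⟨E, p, hE, hp⟩ := hY M hc
    have hS := K0ResLib.kerSeq_shortExact p
    have hk : Coh.IsCoh (K0ResLib.kerSeq p).X₁ := isCoh_X₁ hS (isCoh_of_vb hE) hc
    have hK := ih hk fun x => PdAt.ker hS (d := d + 1) (pdAt_of_vb hE x _) (hd x)
    obtain ⟨-, d₁, hd₁⟩ := (resP_iff hZ).1 hK
    obtain ⟨-, d₂, hd₂⟩ := (resP_iff hZ).1 (hvb E hE)
    refine (resP_iff hZ).2 ⟨hcoh M hc, max d₁ d₂ + 1, fun z => ?_⟩
    exact PdAt.quot (hF _ hS) ((hd₁ z).mono (le_max_left _ _))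
      ((hd₂ z).mono ((le_max_right _ _).trans (Nat.le_succ _)))

/-- Exact functors commute with alternating sums of resolutions. -/
theorem clSub_map_euler (hY : KRR.HasEnoughLocFree Y)
    (hF : ∀ S : ShortComplex Y.Modules, S.ShortExact → (S.map F).ShortExact)
    (hres : ∀ M, resP Y M → resP Z (F.obj M)) {M : Y.Modules} (hM : resP Y M) {n : ℕ}
    {L : ChainComplex Y.Modules ℕ} {π : L ⟶ (ChainComplex.single₀ Y.Modules).obj M} (h : KRR.IsLFRes M n L π) :
    KZero.clSub (resP Z) (F.obj M) =
      ∑ k ∈ Finset.range (n + 1), (-1 : ℤ) ^ k • KZero.clSub (resP Z) (F.obj (L.X k)) := by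
  obtain ⟨φ, hφ⟩ := exists_lift_sub (resP Y) (fun M => KZero.clSub (resP Z) (F.obj M)) fun S hS h₁ h₂ h₃ =>
    clSub_add (resP Z) _ (hF S hS) (hres _ h₁) (hres _ h₂) (hres _ h₃)
  rw [← hφ M hM, clSub_res_euler hY hM h, map_sum]
  exact Finset.sum_congr rfl fun k _ => by rw [map_zsmul, hφ _ (resP_of_vb hY (h.finLocFree k))]

section Tensor

variable (E : Y.Modules)

open CurvLib in
omit [IsLocallyNoetherian Y] in
/-- Tensoring with a locally free module is exact. -/
theorem shortExact_tensor_vb (hE : FlatMod.IsFinLocFree E) {S : ShortComplex Y.Modules} (hS : S.ShortExact) :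
    (S.map (CurvLib.tensorLeft' E)).ShortExact := by
  refine shortExact_of_stalks _ fun x => ?_
  let R := Y.presheaf.stalk x
  haveI : Module.Free R ((DerSch.stalkFunctor Y x).obj E) := MiscFlat6.free_stalk_of_isFinLocFree hE x
  haveI : Module.Flat R ((DerSch.stalkFunctor Y x).obj E) := inferInstance
  have hx := hS.map_of_exact (DerSch.stalkFunctor Y x)
  let T := (S.map (DerSch.stalkFunctor Y x)).map (MonoidalCategory.tensorLeft ((DerSch.stalkFunctor Y x).obj E))
  have hT : T.ShortExact :=
    { exact := Module.Flat.lTensor_shortComplex_exact ((DerSch.stalkFunctor Y x).obj E) _ hx.exact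
      mono_f := (ModuleCat.mono_iff_injective _).mpr
        (Module.Flat.lTensor_preserves_injective_linearMap _
          ((ModuleCat.mono_iff_injective _).mp hx.mono_f))
      epi_g := (ModuleCat.epi_iff_surjective _).mpr
        (LinearMap.lTensor_surjective _ ((ModuleCat.epi_iff_surjective _).mp hx.epi_g)) }
  exact ShortComplex.shortExact_of_iso
    (ShortComplex.isoMk (KFlatLib.stalkTensorIso E S.X₁ x) (KFlatLib.stalkTensorIso E S.X₂ x)
      (KFlatLib.stalkTensorIso E S.X₃ x)
      (KFlatLib.stalkTensorIso_natural_right (M := E) x S.f).symm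
      (KFlatLib.stalkTensorIso_natural_right (M := E) x S.g).symm :
      T ≅ (S.map (CurvLib.tensorLeft' E)).map (DerSch.stalkFunctor Y x)) hT

/-- The tensor product of locally free modules is locally free. -/
theorem vb_tensor {A : Y.Modules} (hA : FlatMod.IsFinLocFree A) (hE : FlatMod.IsFinLocFree E) :
    FlatMod.IsFinLocFree ((CurvLib.tensorLeft' A).obj E) := by
  haveI := (isCoh_of_vb hA).1
  haveI := (isCoh_of_vb hE).1
  refine vb_of_pd_zero ⟨(Groth.Agent.S2297.result A E).1, (Groth.Agent.S2297.result A E).2 (isCoh_of_vb hA).2 (isCoh_of_vb hE).2⟩ fun x => ?_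
  haveI h₁ : Module.Free (Y.presheaf.stalk x) ((DerSch.stalkFunctor Y x).obj A) :=
    MiscFlat6.free_stalk_of_isFinLocFree hA x
  haveI h₂ : Module.Free (Y.presheaf.stalk x) ((DerSch.stalkFunctor Y x).obj E) :=
    MiscFlat6.free_stalk_of_isFinLocFree hE x
  haveI : Projective ((DevissLib.St x).obj ((CurvLib.tensorLeft' A).obj E)) := by
    refine (IsProjective.iff_projective _).1 ?_
    haveI : Module.Projective (Y.presheaf.stalk x)
        (TensorProduct (Y.presheaf.stalk x) ((DerSch.stalkFunctor Y x).obj A) ((DerSch.stalkFunctor Y x).obj E)) :=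
      inferInstance
    exact Module.Projective.of_equiv (KFlatLib.stalkTensorIso A E x).toLinearEquiv
  exact (projective_iff_hasProjectiveDimensionLT_one (X := (DevissLib.St x).obj ((CurvLib.tensorLeft' A).obj E))).1
    inferInstance

end Tensor

end VBResLib
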