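import Groth.Agent.VBResLib.Res
import Groth.Agent.VBResLib.Hyp
import Groth.Agent.AmpleFamDivLib.Main
import Groth.Agent.MiscFlat6.ResolutionProp
import Groth.Agent.RegUFDLib.Basic
import Groth.Agent.PerfLib.Derived
import Groth.Agent.PerfLib.FiniteType
import Groth.Agent.DerLib.Devissage
import Mathlib.Algebra.Homology.DerivedCategory.SingleTriangle

/-!
# Bounded coherent objects on regular schemes are perfect
-/

set_option autoImplicit false
set_option linter.style.haveILetI false

universe u

open CategoryTheory CategoryTheory.Limits AlgebraicGeometry Pretriangulated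
open Groth.Agent.PerfLib

attribute [local instance] HasDerivedCategory.standard

namespace VBResLib

variable {X : Scheme.{u}}

/-- Coherent modules of bounded stalk projective dimension are perfect. -/
theorem isPerfect_inD_of_pd [IsLocallyNoetherian X] (hX : KRR.HasEnoughLocFree X) :
    ∀ (d : ℕ) (M : X.Modules), Coh.IsCoh M → Pd d M → DCoh.IsPerfect (DCoh.inD X M) := by
  intro d
  induction d with
  | zero =>
    intro M hM hd
    rw [isPerfect_iff]
    intro x
    let E := (CochainComplex.singleFunctor X.Modules 0).obj M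
    have hE : DCoh.IsStrictlyPerfect E := by
      refine ⟨⟨0, 0, fun i hi => HomologicalComplex.isZero_single_obj_X (ComplexShape.up ℤ) 0 M i (by omega)⟩, fun i => ?_⟩
      by_cases h : i = 0
      · subst h
        exact Groth.Agent.PerfLib.isFinLocFree_of_iso (HomologicalComplex.singleObjXSelf (ComplexShape.up ℤ) 0 M).symm
          (vb_of_pd_zero hM hd)
      · exact KFlatLib.isFinLocFree_of_isFinFree (KFlatLib.isFinFree_of_isZero
          (HomologicalComplex.isZero_single_obj_X (ComplexShape.up ℤ) 0 M i h))
    exact ⟨X, 𝟙 X, inferInstance, x, rfl, (resC (𝟙 X)).obj E, isStrictlyPerfect_res _ hE,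
      ⟨(resD (𝟙 X)).mapIso ((DerivedCategory.singleFunctorIsoCompQ X.Modules 0).app M) ≪≫ resDQIso (𝟙 X) E⟩⟩
  | succ d ih =>
    intro M hM hd
    obtain ⟨E, p, hE, hp⟩ := hX M hM
    have hS := K0ResLib.kerSeq_shortExact p
    refine isPerfect_obj₃ _ hS.singleTriangle_distinguished ?_ ?_
    · exact ih _ (isCoh_X₁ hS (isCoh_of_vb hE) hM) fun x => PdAt.ker hS (d := d + 1) (pdAt_of_vb hE x _) (hd x)
    · exact ih E (isCoh_of_vb hE) fun x => (pdAt_of_vb hE x d)

/-- A coherent module on a regular scheme is perfect. -/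
theorem isPerfect_inD_of_regular [IsLocallyNoetherian X] (hreg : ∀ x : X, IsRegularLocalRing (X.presheaf.stalk x))
    {M : X.Modules} (hM : Coh.IsCoh M) : DCoh.IsPerfect (DCoh.inD X M) := by
  rw [isPerfect_iff]
  intro x
  obtain ⟨U, hU, hxU, -⟩ := exists_isAffineOpen_mem_and_subset (x := x) (U := ⊤) trivial
  haveI : IsAffine U := hU
  haveI : IsLocallyNoetherian (U : Scheme.{u}) := LocallyOfFiniteType.isLocallyNoetherian U.ι
  haveI : AlgebraicGeometry.IsNoetherian (U : Scheme.{u}) := {}
  have hregU : ∀ y : U, IsRegularLocalRing ((U : Scheme.{u}).presheaf.stalk y) := fun y =>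
    haveI := hreg (U.ι y)
    IsRegularLocalRing.of_ringEquiv (asIso (U.ι.stalkMap y)).commRingCatIsoToRingEquiv
  have hfam : MoreMor.HasAmpleFamily (U : Scheme.{u}) :=
    AmpleFamDivLib.hasAmpleFamily_of_factorial (fun V W hV hW => hV.inf hW) fun y =>
      haveI := hregU y
      haveI := CommAlgDim.isDomain_of_isRegularLocalRing ((U : Scheme.{u}).presheaf.stalk y)
      ⟨inferInstance, RegUFDLib.uniqueFactorizationMonoid _⟩
  have hX : KRR.HasEnoughLocFree (U : Scheme.{u}) := fun F hF =>
    MiscFlat6.hasResolutionProperty_of_hasAmpleFamily hfam F hF.1 hF.2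
  have hMU : Coh.IsCoh (M.restrict U.ι) := by
    haveI := hM.1
    exact ⟨inferInstance, RpushLib.isFT_restrict hM.2 U⟩
  obtain ⟨d, hd⟩ := exists_pd_of_regular hX hregU hMU
  obtain ⟨e⟩ : Nonempty ((resD U.ι).obj (DCoh.inD X M) ≅ DCoh.inD _ (M.restrict U.ι)) :=
    ⟨(Scheme.Modules.restrictFunctor U.ι).mapDerivedCategorySingleFunctor 0 |>.app M⟩
  obtain ⟨V, j, hj, v, hv, E, hE, ⟨eE⟩⟩ :=
    (isPerfect_iff _).1 (isPerfect_inD_of_pd hX d _ hMU hd) ⟨x, hxU⟩
  obtain ⟨c⟩ := nonempty_resD_comp j U.ι (DCoh.inD X M)
  exact ⟨V, j ≫ U.ι, inferInstance, v, by rw [Scheme.Hom.comp_apply, hv]; rfl, E, hE,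
    ⟨c ≪≫ (resD j).mapIso e ≪≫ eE⟩⟩

/-- Bounded coherent objects on regular schemes are perfect. -/
theorem isPerfect_of_regular [IsLocallyNoetherian X] (hreg : ∀ x : X, IsRegularLocalRing (X.presheaf.stalk x)) :
    ∀ (k : ℕ) (a : ℤ) (K : DCoh.D X), K.IsGE a → K.IsLE (a + k) → DCoh.IsCohD K → DCoh.IsPerfect K := by
  open DerivedCategory DerivedCategory.TStructure Groth.Agent.DerLib.Devissage in
  have sing : ∀ (n : ℤ) (G : X.Modules), Coh.IsCoh G →
      DCoh.IsPerfect ((DerivedCategory.singleFunctor X.Modules n).obj G) := fun n G hG =>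
    Groth.Agent.PerfLib.isPerfect_of_iso (((DerivedCategory.singleFunctors X.Modules).shiftIso (-n) n 0 (by omega)).app G)
      (isPerfect_shift (isPerfect_inD_of_regular hreg hG) (-n))
  intro k
  induction k with
  | zero =>
    intro a K _ hle hP
    haveI : K.IsLE a := DerivedCategory.TStructure.t.isLE_of_le K (a + ((0 : ℕ) : ℤ)) a (by omega)
    obtain ⟨e⟩ := Groth.Agent.DerLib.Devissage.nonempty_iso_single K a
    exact Groth.Agent.PerfLib.isPerfect_of_iso e.symm (sing a _ (hP a))
  | succ k ih =>
    intro a K hge hle hP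
    open DerivedCategory DerivedCategory.TStructure Groth.Agent.DerLib.Devissage in
    haveI : K.IsLE (a + k + 1) := t.isLE_of_le K (a + ((k + 1 : ℕ) : ℤ)) _ (by push_cast; omega)
    open DerivedCategory DerivedCategory.TStructure Groth.Agent.DerLib.Devissage in
    refine isPerfect_obj₂ _ (t.triangleLEGT_distinguished (a + k) K) ?_ ?_
    · open DerivedCategory DerivedCategory.TStructure Groth.Agent.DerLib.Devissage in
      refine ih a ((t.truncLE (a + k)).obj K) ?_ inferInstance fun i => ?_
      · rw [isGE_iff]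
        intro i hi
        haveI := isIso_homology_truncLEι K (a + k) i (by omega)
        exact (isZero_of_isGE K a i hi).of_iso
          (asIso ((DerivedCategory.homologyFunctor X.Modules i).map ((t.truncLEι (a + k)).app K)))
      · rcases le_or_gt i (a + k) with hib | hib
        · haveI := isIso_homology_truncLEι K (a + k) i hib
          exact QCohLib.isCoh_of_iso (asIso ((DerivedCategory.homologyFunctor X.Modules i).map
            ((t.truncLEι (a + k)).app K))).symm (hP i)
        · exact DevissLib.isCoh_of_isZero (isZero_of_isLE _ (a + k) i hib)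
    · open DerivedCategory DerivedCategory.TStructure Groth.Agent.DerLib.Devissage in
      change DCoh.IsPerfect ((t.truncGT (a + k)).obj K)
      open DerivedCategory DerivedCategory.TStructure Groth.Agent.DerLib.Devissage in
      haveI : ((t.truncGT (a + k)).obj K).IsLE (a + k + 1) := by
        rw [isLE_iff]
        intro i hi
        haveI := isIso_homology_truncGTπ K (a + k) i (by omega)
        exact (isZero_of_isLE K (a + k + 1) i hi).of_iso
          (asIso ((DerivedCategory.homologyFunctor X.Modules i).map ((t.truncGTπ (a + k)).app K))).symm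
      open DerivedCategory DerivedCategory.TStructure Groth.Agent.DerLib.Devissage in
      obtain ⟨e⟩ := nonempty_iso_single ((t.truncGT (a + k)).obj K) (a + k + 1)
      open DerivedCategory DerivedCategory.TStructure Groth.Agent.DerLib.Devissage in
      haveI := isIso_homology_truncGTπ K (a + k) (a + k + 1) (by omega)
      exact Groth.Agent.PerfLib.isPerfect_of_iso e.symm (sing _ _ (QCohLib.isCoh_of_iso
        (asIso ((DerivedCategory.homologyFunctor X.Modules (a + k + 1)).map
          ((DerivedCategory.TStructure.t.truncGTπ (a + k)).app K))) (hP _)))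

end VBResLib
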