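import Groth.Agent.VBResLib.RegPush
import Groth.Agent.VBResLib.Euler
import Groth.Agent.VBResLib.Hyp
import Groth.Agent.S3745

/-!
# Push-forward of `K₀` of locally free modules along a regular closed immersion
-/

set_option autoImplicit false

universe u

open CategoryTheory CategoryTheory.Limits AlgebraicGeometry
open Groth.Agent.KHeartLib
open scoped ZeroObject

namespace VBResLib

variable {Y : Scheme.{u}}

/-- Coherent modules with a finite locally free resolution. -/
abbrev resP (Y : Scheme.{u}) : ObjectProperty Y.Modules := fun M => Coh.IsCoh M ∧ KRR.HasLFRes M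

theorem resP_iff [IsLocallyNoetherian Y] (hY : KRR.HasEnoughLocFree Y) {M : Y.Modules} :
    resP Y M ↔ Coh.IsCoh M ∧ ∃ d, Pd d M :=
  ⟨fun h => ⟨h.1, exists_pd_of_hasLFRes h.2⟩, fun ⟨h, _, hd⟩ => ⟨h, hasLFRes_of_pd hY h hd⟩⟩

theorem resP_of_vb [IsLocallyNoetherian Y] (hY : KRR.HasEnoughLocFree Y) {M : Y.Modules}
    (hM : FlatMod.IsFinLocFree M) : resP Y M :=
  (resP_iff hY).2 ⟨isCoh_of_vb hM, 0, fun y => pdAt_of_vb hM y 0⟩

theorem resP_closedUnderIso [IsLocallyNoetherian Y] (hY : KRR.HasEnoughLocFree Y) :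
    (resP Y).IsClosedUnderIsomorphisms :=
  ⟨fun e h => by
    obtain ⟨h1, d, hd⟩ := (resP_iff hY).1 h
    exact (resP_iff hY).2 ⟨QCohLib.isCoh_of_iso e h1, d, fun x => (hd x).of_iso e⟩⟩

theorem resP_ker [IsLocallyNoetherian Y] (hY : KRR.HasEnoughLocFree Y) (S : ShortComplex Y.Modules)
    (hS : S.ShortExact) (h₂ : resP Y S.X₂) (h₃ : resP Y S.X₃) : resP Y S.X₁ := by
  obtain ⟨c₂, d₂, hd₂⟩ := (resP_iff hY).1 h₂
  obtain ⟨c₃, d₃, hd₃⟩ := (resP_iff hY).1 h₃
  refine (resP_iff hY).2 ⟨isCoh_X₁ hS c₂ c₃, max d₂ d₃, fun x => ?_⟩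
  exact PdAt.ker hS (d := max d₂ d₃ + 1) ((hd₂ x).mono (le_max_left _ _))
    ((hd₃ x).mono (le_trans (le_max_right _ _) (Nat.le_succ _)))

theorem resP_containsZero [IsLocallyNoetherian Y] (hY : KRR.HasEnoughLocFree Y) : (resP Y).ContainsZero :=
  ⟨⟨0, isZero_zero _, resP_of_vb hY (vb_of_isZero (isZero_zero _))⟩⟩

/-- In `K₀` of coherent modules with finite resolutions, a module is the alternating sum of a resolution. -/
theorem clSub_res_euler [IsLocallyNoetherian Y] (hY : KRR.HasEnoughLocFree Y) {M : Y.Modules} (hM : resP Y M)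
    {n : ℕ} {L : ChainComplex Y.Modules ℕ} {π : L ⟶ (ChainComplex.single₀ Y.Modules).obj M}
    (h : KRR.IsLFRes M n L π) :
    KZero.clSub (resP Y) M = ∑ k ∈ Finset.range (n + 1), (-1 : ℤ) ^ k • KZero.clSub (resP Y) (L.X k) := by
  have := resP_closedUnderIso hY
  have := resP_containsZero hY
  have := h.quasiIso
  exact clSub_eq_euler (resP Y) (resP_ker hY) hM L (fun i => resP_of_vb hY (h.finLocFree i)) n h.isZero π

variable {X : Scheme.{u}}

/-- The push-forward on `K₀` of locally free modules along a regular closed immersion. -/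
theorem exists_kPush (f : X ⟶ Y) (hf : Mor2.IsRegularClosedImmersion f) [IsNoetherian Y]
    (hY : KRR.HasEnoughLocFree Y) :
    ∃ ψ : SGA6.Kvb X →+ SGA6.Kvb Y, ∀ F : X.Modules, FlatMod.IsFinLocFree F → ∀ (n : ℕ)
      (L : ChainComplex Y.Modules ℕ) (π : L ⟶ (ChainComplex.single₀ Y.Modules).obj ((Scheme.Modules.pushforward f).obj F)),
      KRR.IsLFRes ((Scheme.Modules.pushforward f).obj F) n L π →
        ψ (KRR.cl X F) = ∑ k ∈ Finset.range (n + 1), (-1 : ℤ) ^ k • KRR.cl Y (L.X k) := by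
  have := hf.1
  have : PreservesFiniteColimits (Scheme.Modules.pushforward f) :=
    PreservesColimitsOfSize.preservesFiniteColimits.{0, 0} _
  have hP : ∀ F : X.Modules, FlatMod.IsFinLocFree F → resP Y ((Scheme.Modules.pushforward f).obj F) := fun F hF =>
    (resP_iff hY).2 ⟨isCoh_push_of_isClosedImmersion f (isCoh_of_vb hF), exists_pd_push hY hf hF⟩
  have hvb : ∀ M : Y.Modules, FlatMod.IsFinLocFree M → resP Y M := fun M hM => resP_of_vb hY hM
  let e := AddEquiv.ofBijective _ (Groth.Agent.S3745.result Y hY hvb)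
  refine ⟨e.symm.toAddMonoidHom.comp (SGA6.mapSub (Scheme.Modules.pushforward f) (KRR.vbP X) (resP Y) hP),
    fun F hF n L π hres => ?_⟩
  apply e.injective
  simp only [AddMonoidHom.coe_comp, AddEquiv.coe_toAddMonoidHom, Function.comp_apply, AddEquiv.apply_symm_apply,
    map_sum, map_zsmul, mapSub_clSub _ _ _ hP hF, clSub_res_euler hY (hP F hF) hres]
  refine Finset.sum_congr rfl fun k _ => congrArg _ ?_
  exact (mapSub_clSub (𝟭 Y.Modules) (KRR.vbP Y) (resP Y) hvb (hres.finLocFree k)).symm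

end VBResLib
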